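import Groth.Agent.Lefpen.H527.Quad
import Groth.Agent.Lefpen.H713.HypProj

/-!
# The split quadric, its flag of singular sections and the cells: geometry

`Q = P (J 0)` the split quadric (`= Hyp (qg k e)`), `P (J t)` its section by `x_0 = … = x_{t-1} = 0`.
* `toS t : P (J t) ⟶ Spec k` proper;
* `step t : P (J (t + 1)) ⟶ P (J t)` closed immersion with complement `cellT t`, an affine space of
  dimension `≥ m + 1`;
* `ι a : P^m ⟶ P (J m)`, closed immersions (`a = 0, 1`) with complement `cellM a`, an affine space of dimension `m`;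
  `cellM 0`, `cellM 1` are disjoint;
* `down t : P (J t) ⟶ P (J 0)`, `tau : P (J 0) ⟶ P (J 0)` and `ι a ≫ down m ≫ tau = ι (op a) ≫ down m`.
-/

set_option autoImplicit false
open CategoryTheory AlgebraicGeometry MvPolynomial
open Groth.Agent.Sga5.ProjSurj Groth.Agent.Lefpen.H713.GrQuot Groth.Agent.Lefpen.H527.QuotProj
universe u

namespace Groth.Agent.Lefpen.H527.Quad

variable (k : Type u) [CommRing k] {n m : ℕ} (e : Fin 2 ⊕ (Fin m ⊕ Fin m) ≃ Fin (n + 1))

theorem str_eq (n : ℕ) : str (CohB1.polyGrading n k) = CohB1.ProjSpace.toSpec n k := rfl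

/-- the structure morphism -/
noncomputable def toS (I : HomogeneousIdeal (CohB1.polyGrading n k)) : P I ⟶ Spec (CommRingCat.of k) :=
  emb I ≫ str (CohB1.polyGrading n k)

theorem isProper_str (n : ℕ) : IsProper (str (CohB1.polyGrading n k)) :=
  Ega3B.ProjProper.isProper_toSpec n k

instance isProper_toS (I : HomogeneousIdeal (CohB1.polyGrading n k)) : IsProper (toS k I) := by
  have h2 : IsProper (emb I) := inferInstance
  exact MorphismProperty.comp_mem @IsProper _ _ h2 (isProper_str k n)

/-- the closed immersion into projective space -/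
noncomputable def em (I : HomogeneousIdeal (CohB1.polyGrading n k)) : P I ⟶ CohB1.ProjSpace n k := emb I

instance (I : HomogeneousIdeal (CohB1.polyGrading n k)) : IsClosedImmersion (em k I) :=
  isClosedImmersion_emb I

theorem hyp_eq : H713.HypProj.Hyp (qg k e) = P (J k e 0) := rfl
theorem emb_eq : H713.HypProj.emb (qg k e) = em k (J k e 0) := rfl
theorem toSpec_eq : H713.HypProj.toSpec (qg k e) = toS k (J k e 0) := rfl

/-- the coordinate ring -/
abbrev CR (n : ℕ) : Type u := MvPolynomial (Fin (n + 1)) k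

lemma J_le_ker (s t : ℕ) (h : s ≤ t) : (J k e s).toIdeal ≤
    RingHom.ker (prG (J k e t) : CR k n →+* CR k n ⧸ (J k e t).toIdeal) := by
  intro x hx
  exact Ideal.Quotient.eq_zero_iff_mem.2 (J_mono k e h hx)

lemma ker_prG (t : ℕ) : RingHom.ker (prG (J k e t) : CR k n →+* CR k n ⧸ (J k e t).toIdeal) =
    (J k e t).toIdeal := Ideal.mk_ker

/-- the closed immersion `P (J t) ⟶ P (J s)` for `s ≤ t` -/
noncomputable def res (s t : ℕ) (h : s ≤ t) : P (J k e t) ⟶ P (J k e s) :=
  pl (J k e s) (prG (J k e t)) (degSurj_prG _) (J_le_ker k e s t h)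

instance (s t : ℕ) (h : s ≤ t) : IsClosedImmersion (res k e s t h) :=
  isClosedImmersion_pl _ _ _ _

@[reassoc]
theorem res_em (s t : ℕ) (h : s ≤ t) : res k e s t h ≫ em k (J k e s) = em k (J k e t) :=
  pl_emb (J k e s) (prG (J k e t)) (degSurj_prG _) (J_le_ker k e s t h)

theorem res_res (r s t : ℕ) (h : r ≤ s) (h' : s ≤ t) :
    res k e s t h' ≫ res k e r s h = res k e r t (h.trans h') := by
  rw [← cancel_mono (em k (J k e r)), Category.assoc, res_em, res_em, res_em]

theorem res_self (t : ℕ) : res k e t t le_rfl = 𝟙 _ := by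
  rw [← cancel_mono (em k (J k e t)), res_em, Category.id_comp]

section CellT

variable (t : Fin m)

/-- the dimension of the cell -/
noncomputable abbrev dT : ℕ := Fintype.card (Tau t)

theorem le_dT : m + 1 ≤ dT t := by
  have h1 : Fintype.card (Fin 2 ⊕ {i : Fin m // i ≠ t}) = m + 1 := by
    rw [Fintype.card_sum, Fintype.card_fin, Fintype.card_subtype_compl, Fintype.card_fin,
      Fintype.card_subtype_eq]
    have := t.2
    omega
  rw [← h1]
  refine Fintype.card_le_of_injective (fun c => match c with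
    | Sum.inl a => (⟨Sum.inl a, by simp⟩ : Tau t)
    | Sum.inr i => (⟨Sum.inr (Sum.inr i.1), by
        refine ⟨?_, by simp⟩
        intro h
        exact i.2 (Sum.inr_injective (Sum.inr_injective h))⟩ : Tau t)) ?_
  rintro (a | i) (b | j) h
  · exact congrArg _ (Sum.inl_injective (congrArg Subtype.val h))
  · exact absurd (congrArg Subtype.val h) (by simp)
  · exact absurd (congrArg Subtype.val h) (by simp)
  · exact congrArg _ (Subtype.ext (Sum.inr_injective (Sum.inr_injective (congrArg Subtype.val h))))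

/-- the chart homomorphism with values in `k[T_1, …, T_d]` -/
noncomputable def θT : MvPolynomial (Fin (n + 1)) k →ₐ[k] MvPolynomial (Fin (dT t)) k :=
  (renameEquiv k (Fintype.equivFin (Tau t)) : MvPolynomial (Tau t) k →ₐ[k] _).comp (θc k e t)

theorem θT_surjective : Function.Surjective (θT k e t) :=
  (renameEquiv k (Fintype.equivFin (Tau t))).surjective.comp (θc_surjective k e t)

theorem ker_θT : RingHom.ker (θT k e t : MvPolynomial (Fin (n + 1)) k →+* MvPolynomial (Fin (dT t)) k) =
    (J k e t).toIdeal ⊔ Ideal.span {xt k e t - 1} := by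
  rw [← ker_θc]
  ext p
  exact (map_eq_zero_iff (renameEquiv k (Fintype.equivFin (Tau t)))
    (renameEquiv k (Fintype.equivFin (Tau t))).injective)

/-- the cell `x_t ≠ 0` of `P (J t)` -/
noncomputable def cellT : Spec (CommRingCat.of (MvPolynomial (Fin (dT t)) k)) ⟶ P (J k e t) :=
  cell (J k e t) (xt k e t) (xt_mem k e t) (θT k e t : MvPolynomial (Fin (n + 1)) k →+* _)
    (θT_surjective k e t) (ker_θT k e t)

instance : IsOpenImmersion (cellT k e t) := isOpenImmersion_cell _ _ _ _ _ _

theorem cellT_toS : cellT k e t ≫ toS k (J k e t) =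
    Spec.map (CommRingCat.ofHom (algebraMap k (MvPolynomial (Fin (dT t)) k))) := by
  have h : ∀ r : k, (θT k e t : MvPolynomial (Fin (n + 1)) k →+* MvPolynomial (Fin (dT t)) k)
    (algebraMap k (MvPolynomial (Fin (n + 1)) k) r) = algebraMap k (MvPolynomial (Fin (dT t)) k) r :=
    fun r => (θT k e t).commutes r
  unfold cellT toS
  exact cell_str (J k e t) (xt k e t) (xt_mem k e t) _ (θT_surjective k e t) (ker_θT k e t) h

theorem isCompl_cellT : IsCompl (Set.range (res k e t (t + 1) (Nat.le_succ _)))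
    (Set.range (cellT k e t)) := by
  refine isCompl_range (J k e t) (prG (J k e (t + 1))) (degSurj_prG _) _ (xt k e t) (xt_mem k e t)
    _ _ _ ?_
  rw [ker_prG, J_succ]

theorem smooth_of_eq {X : Scheme.{u}} {d : ℕ} {f : Spec (CommRingCat.of (MvPolynomial (Fin d) k)) ⟶ X}
    {g : X ⟶ Spec (CommRingCat.of k)}
    (h : f ≫ g = Spec.map (CommRingCat.ofHom (algebraMap k (MvPolynomial (Fin d) k)))) :
    SmoothOfRelativeDimension d (f ≫ g) := by
  rw [h]
  exact Sga5.ProjSmooth.smooth_chart_toSpec d k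

instance smooth_cellT : SmoothOfRelativeDimension (dT t) (cellT k e t ≫ toS k (J k e t)) :=
  smooth_of_eq k (cellT_toS k e t)

end CellT

section Plane

variable (a : Fin 2)

lemma J_le_ker_φMg : (J k e m).toIdeal ≤
    RingHom.ker (φMg k e a : MvPolynomial (Fin (n + 1)) k →+* MvPolynomial (Fin (m + 1)) k) := by
  rw [ker_φMg]; exact le_sup_left

/-- the two planes in `P (J m)` -/
noncomputable def ι : CohB1.ProjSpace m k ⟶ P (J k e m) :=
  pl (J k e m) (φMg k e a) (degSurj_φMg k e a) (J_le_ker_φMg k e a)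

instance : IsClosedImmersion (ι k e a) := isClosedImmersion_pl _ _ _ _

/-- the linear embedding defining the plane -/
noncomputable def lin : CohB1.ProjSpace m k ⟶ CohB1.ProjSpace n k :=
  Proj.map (φMg k e a) (irrelevant_le_map (degSurj_φMg k e a))

@[reassoc]
theorem ι_em : ι k e a ≫ em k (J k e m) = lin k e a :=
  pl_emb (J k e m) (φMg k e a) (degSurj_φMg k e a) (J_le_ker_φMg k e a)

/-- the cell `u_a ≠ 0` of `P (J m)` -/
noncomputable def cellM : Spec (CommRingCat.of (MvPolynomial (Fin m) k)) ⟶ P (J k e m) :=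
  cell (J k e m) (U e a) (U_mem k e a) (θM k e a : MvPolynomial (Fin (n + 1)) k →+* _)
    (θM_surjective k e a) (ker_θM k e a)

instance : IsOpenImmersion (cellM k e a) := isOpenImmersion_cell _ _ _ _ _ _

theorem isCompl_cellM : IsCompl (Set.range (ι k e a)) (Set.range (cellM k e a)) :=
  isCompl_range (J k e m) (φMg k e a) (degSurj_φMg k e a) _ (U e a) (U_mem k e a) _ _ _
    (ker_φMg k e a)

theorem disjoint_cellM : Disjoint (Set.range (cellM k e a)) (Set.range (cellM k e (op a))) := by
  rw [Set.disjoint_left]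
  intro x h1 h2
  have h3 := (mem_range_cell_iff (J k e m) (U e a) (U_mem k e a) _ _ _ x).1 h1
  have h4 := (mem_range_cell_iff (J k e m) (U e (op a)) (U_mem k e (op a)) _ _ _ x).1 h2
  have hp : (ProjectiveSpectrum.asHomogeneousIdeal (𝒜 := gr (J k e m)) x).toIdeal.IsPrime :=
    ProjectiveSpectrum.isPrime (𝒜 := gr (J k e m)) x
  have h5 : Ideal.Quotient.mk (J k e m).toIdeal (U e a) * Ideal.Quotient.mk (J k e m).toIdeal
      (U e (op a)) = 0 := by
    rw [← map_mul, Ideal.Quotient.eq_zero_iff_mem]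
    have h6 : U e a * U e (op a) = qf k e - ∑ i, xx e i * yy e i := by
      rw [qf_eq k e a]; ring
    rw [h6]
    exact Ideal.sub_mem _ (qf_mem_J k e m) (Ideal.sum_mem _ fun i _ =>
      Ideal.mul_mem_right _ _ (xx_mem_J k e m i i.2))
  rcases hp.mem_or_mem (show _ * _ ∈ _ from h5 ▸ Ideal.zero_mem _) with h | h
  · exact h3 h
  · exact h4 h

end Plane

section Tau

/-- the composite of the swap and the projection -/
noncomputable def swp : CohB1.polyGrading n k →+*ᵍ gr (J k e 0) := (prG (J k e 0)).comp (sw k e)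

lemma swp_apply (p : MvPolynomial (Fin (n + 1)) k) : swp k e p = prG (J k e 0) (sw k e p) := rfl

lemma J_le_ker_sw : (J k e 0).toIdeal ≤
    RingHom.ker (swp k e : CR k n →+* CR k n ⧸ (J k e 0).toIdeal) := by
  refine (J_le_iff k e 0 _).2 ⟨?_, fun i hi => absurd hi (Nat.not_lt_zero _)⟩
  change prG (J k e 0) (sw k e (qf k e)) = 0
  rw [sw_qf]
  exact Ideal.Quotient.eq_zero_iff_mem.2 (qf_mem_J k e 0)

lemma degSurj_comp_sw : DegSurj (swp k e) := by
  intro i b hb
  obtain ⟨a, ha, rfl⟩ := degSurj_prG (J k e 0) i b hb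
  refine ⟨sw k e a, (sw k e).2 ha, ?_⟩
  rw [swp_apply, sw_sw]

/-- the involution of the quadric exchanging `u` and `v` -/
noncomputable def tau : P (J k e 0) ⟶ P (J k e 0) :=
  pl (J k e 0) (swp k e) (degSurj_comp_sw k e) (J_le_ker_sw k e)

/-- the corresponding involution of projective space -/
noncomputable def tauP : CohB1.ProjSpace n k ⟶ CohB1.ProjSpace n k :=
  Proj.map (sw k e) (irrelevant_le_map (degSurj_sw k e))

theorem tau_emb' : tau k e ≫ emb (J k e 0) = emb (J k e 0) ≫
    Proj.map (sw k e) (irrelevant_le_map (degSurj_sw k e)) :=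
  (pl_emb (J k e 0) (swp k e) (degSurj_comp_sw k e) (J_le_ker_sw k e)).trans
    (map_map (sw k e) (prG (J k e 0)) (swp k e) (fun _ => rfl) _ _ _).symm

@[reassoc]
theorem tau_em : tau k e ≫ em k (J k e 0) = em k (J k e 0) ≫ tauP k e := tau_emb' k e

theorem tauP_tauP : tauP k e ≫ tauP k e = 𝟙 _ := by
  refine (map_map (sw k e) (sw k e) (.id _) (fun p => sw_sw k e p) _ _ (by simp)).trans ?_
  exact Proj.map_id

theorem tau_tau : tau k e ≫ tau k e = 𝟙 _ := by
  rw [← cancel_mono (em k (J k e 0)), Category.assoc, tau_em, tau_em_assoc, tauP_tauP,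
    Category.comp_id, Category.id_comp]

theorem lin_tauP (a : Fin 2) : lin k e a ≫ tauP k e = lin k e (op a) :=
  map_map (sw k e) (φMg k e a) (φMg k e (op a)) (fun p => φMg_sw k e a p) _ _ _

/-- the two planes in the quadric -/
noncomputable def ιQ (a : Fin 2) : CohB1.ProjSpace m k ⟶ P (J k e 0) :=
  ι k e a ≫ res k e 0 m (Nat.zero_le _)

theorem ιQ_em (a : Fin 2) : ιQ k e a ≫ em k (J k e 0) = lin k e a := by
  rw [ιQ, Category.assoc, res_em, ι_em]

theorem ιQ_tau (a : Fin 2) : ιQ k e a ≫ tau k e = ιQ k e (op a) := by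
  rw [← cancel_mono (em k (J k e 0)), Category.assoc, tau_em, ← Category.assoc, ιQ_em, ιQ_em,
    lin_tauP]

end Tau

end Groth.Agent.Lefpen.H527.Quad
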