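import Mathlib.Data.ZMod.Basic
import Mathlib.Data.Nat.Prime.Basic
import Mathlib.Algebra.Group.Hom.Basic
import Mathlib.RingTheory.Coprime.Basic
import Mathlib.Data.ZMod.Units

/-!
# Compatible generators in an inverse system of cyclic groups `ℤ/ℓ^ν` with surjective transition maps
-/

set_option autoImplicit false
universe u

namespace Groth.Agent.Lefpen.H527.CycGen

theorem dvd_of_nsmul_eq_zero {ℓ : ℕ} (hℓ : ℓ.Prime) {ν : ℕ} {G : Type u} [AddCommGroup G]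
    (e : G ≃+ ZMod (ℓ ^ ν)) (x : G) (hx : ∀ y : G, x ≠ ℓ • y) (N : ℕ) (hN : N • x = 0) :
    ℓ ^ ν ∣ N := by
  have hpos : NeZero (ℓ ^ ν) := ⟨pow_ne_zero _ hℓ.ne_zero⟩
  have h1 : ¬ ℓ ∣ (e x).val := by
    rintro ⟨c, hc⟩
    apply hx (e.symm (c : ZMod (ℓ ^ ν)))
    apply e.injective
    rw [map_nsmul, e.apply_symm_apply, nsmul_eq_mul, ← Nat.cast_mul, ← hc, ZMod.natCast_zmod_val]
  have h2 : Nat.Coprime (e x).val (ℓ ^ ν) :=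
    (Nat.Coprime.pow_left ν ((Nat.Prime.coprime_iff_not_dvd hℓ).2 h1)).symm
  have h3 : IsUnit (e x) := by
    rw [← ZMod.natCast_zmod_val (e x)]
    exact (ZMod.unitOfCoprime _ h2).isUnit
  have h4 : (N : ZMod (ℓ ^ ν)) * e x = 0 := by
    rw [← nsmul_eq_mul, ← map_nsmul, hN, map_zero]
  rw [h3.mul_left_eq_zero] at h4
  exact (ZMod.natCast_eq_zero_iff N (ℓ ^ ν)).1 h4

theorem exists_seq {ℓ : ℕ} (hℓ : ℓ.Prime) (G : ℕ → Type u) [∀ ν, AddCommGroup (G ν)]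
    (red : ∀ ν, G (ν + 1) →+ G ν) (hred : ∀ ν, Function.Surjective (red ν))
    (he : ∀ ν, Nonempty (G ν ≃+ ZMod (ℓ ^ ν))) :
    ∃ g : ∀ ν, G ν, (∀ ν, red ν (g (ν + 1)) = g ν) ∧ ∀ ν N : ℕ, N • g ν = 0 → ℓ ^ ν ∣ N := by
  have h0 : ∃ x : G 1, ∀ y, x ≠ ℓ • y := by
    obtain ⟨e⟩ := he 1
    refine ⟨e.symm 1, fun y hy => ?_⟩
    have h1 : (1 : ZMod (ℓ ^ 1)) = ℓ • e y := by rw [← map_nsmul, ← hy, e.apply_symm_apply]
    have h2 : (ℓ : ZMod (ℓ ^ 1)) = 0 := by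
      rw [ZMod.natCast_eq_zero_iff, pow_one]
    rw [nsmul_eq_mul, h2, zero_mul] at h1
    have h3 : Fact (1 < ℓ ^ 1) := ⟨by rw [pow_one]; exact hℓ.one_lt⟩
    exact one_ne_zero h1
  have hs : ∀ ν (x : {x : G (ν + 1) // ∀ y, x ≠ ℓ • y}),
      ∃ x' : {x : G (ν + 2) // ∀ y, x ≠ ℓ • y}, red (ν + 1) x'.1 = x.1 := by
    intro ν x
    obtain ⟨x', hx'⟩ := hred (ν + 1) x.1
    refine ⟨⟨x', fun y hy => x.2 (red (ν + 1) y) ?_⟩, hx'⟩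
    rw [← map_nsmul, ← hy, hx']
  choose s hs using hs
  obtain ⟨x0, hx0⟩ := h0
  let g : ∀ ν, {x : G (ν + 1) // ∀ y, x ≠ ℓ • y} := fun ν =>
    Nat.rec (motive := fun ν => {x : G (ν + 1) // ∀ y, x ≠ ℓ • y}) ⟨x0, hx0⟩ (fun ν x => s ν x) ν
  have hg : ∀ ν, red (ν + 1) (g (ν + 1)).1 = (g ν).1 := fun ν => hs ν (g ν)
  let g' : ∀ ν, G ν := fun ν => match ν with
    | 0 => red 0 (g 0).1
    | ν + 1 => (g ν).1
  refine ⟨g', fun ν => ?_, fun ν N h => ?_⟩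
  · rcases ν with _ | ν
    · rfl
    · exact hg ν
  · rcases ν with _ | ν
    · rw [pow_zero]; exact one_dvd _
    · obtain ⟨e⟩ := he (ν + 1)
      exact dvd_of_nsmul_eq_zero hℓ e (g ν).1 (g ν).2 N h

end Groth.Agent.Lefpen.H527.CycGen
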