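import Groth.Prelude.Def_LefMon

/-!
# Membership in `EtAdic.Hl`
-/

set_option autoImplicit false
universe u v
open CategoryTheory CategoryTheory.Limits AlgebraicGeometry Opposite

namespace Groth.Agent.Lefpen.H527.HlMem

/-- the inverse limit of a sequence of abelian groups as an intersection of kernels -/
theorem mem_iInf_ker {G : ℕ → Type v} [∀ ν, AddCommGroup (G ν)] (red : ∀ ν, G (ν + 1) →+ G ν)
    (x : ∀ ν, G ν) :
    x ∈ (⨅ ν : ℕ, ((red ν).comp (Pi.evalAddMonoidHom (fun μ => G μ) (ν + 1)) -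
      Pi.evalAddMonoidHom (fun μ => G μ) ν).ker : AddSubgroup (∀ ν, G ν)) ↔
      ∀ ν, red ν (x (ν + 1)) = x ν := by
  rw [AddSubgroup.mem_iInf]
  refine forall_congr' fun ν => ?_
  rw [AddMonoidHom.mem_ker]
  exact sub_eq_zero

theorem mem_Hl_iff (X : Scheme.{u}) (ℓ n : ℕ) (x : ∀ ν : ℕ, EtAdic.Hmod X ℓ n ν) :
    x ∈ EtAdic.Hl X ℓ n ↔ ∀ ν, EtAdic.Hred X ℓ n ν (x (ν + 1)) = x ν :=
  mem_iInf_ker (G := fun ν => EtAdic.Hmod X ℓ n ν) (fun ν => EtAdic.Hred X ℓ n ν) x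

end Groth.Agent.Lefpen.H527.HlMem
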