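import Groth.Agent.S3112
import Groth.Agent.Sga5.ProjCoh
import Groth.Agent.Sga5.HcConst
import Groth.Agent.Sga4B.TateConst
import Groth.Agent.Sga4B.HTools
import Groth.Agent.Etrest.HConstIso

/-!
# Compactly supported cohomology of cells

`U` an open subscheme of a proper scheme `P` over an algebraically closed field `k`, `U` isomorphic to `A^d` and smooth
of relative dimension `d` over `k`, `N` invertible in `k`: `H^q(P, j_! ℤ/N) = 0` for `q < 2 d`.
-/

set_option autoImplicit false
universe u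
open CategoryTheory CategoryTheory.Limits AlgebraicGeometry Opposite

namespace Groth.Agent.Lefpen.H527.Inputs

open Groth.Agent.Sga4B

theorem subsingleton_Hc (k : Type u) [Field k] [IsAlgClosed k] (N : ℕ) (hN : (N : k) ≠ 0)
    {U P : Scheme.{u}} (a : P ⟶ Spec (CommRingCat.of k)) [IsProper a] (j : U ⟶ P) [IsOpenImmersion j]
    (d : ℕ) (e : U ≅ Spec (CommRingCat.of (MvPolynomial (Fin d) k)))
    [SmoothOfRelativeDimension d (j ≫ a)] (q : ℕ) (hq : q < 2 * d) :
    Subsingleton (EtCoh.H P ((EtShriek.extZero j).obj (EtCoh.const U (ZMod N))) q) := by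
  have hN0 : N ≠ 0 := by
    rintro rfl
    exact hN (by simp)
  obtain ⟨E⟩ := Groth.Agent.S3112.result k a j d N hN q (by omega)
  have h1 : Subsingleton (EtCoh.H U (EtDual.tate U N d) (2 * d - q)) := by
    obtain ⟨t⟩ := TateConst.nonempty_iso k N hN (j ≫ a) d
    refine HTools.subsingleton_H_of_iso t _ ?_
    obtain ⟨e'⟩ := Groth.Agent.Etrest.HConstIso.nonempty_HConst e (ZMod N) (2 * d - q)
    have := Groth.Agent.Sga5.ProjCoh.subsingleton_H_spec k N hN d (2 * d - q) (by omega)
    exact e'.symm.toEquiv.subsingleton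
  have h2 := E.symm.toEquiv.subsingleton
  exact Groth.Agent.Sga5.HcConst.subsingleton_of_hom_zmod N hN0
    (Groth.Agent.Sga5.HcConst.H_nsmul_eq_zero N _ (ShriekTools.killedBy_extZero j N _
      (Groth.Agent.Etrest.ConstBasic.killedBy_const _ (ZMod N) N (fun a => by simp))) q) h2

theorem odd_or_large (k : Type u) [Field k] [IsSepClosed k] (N : ℕ) (hN : (N : k) ≠ 0) (r q : ℕ)
    (hq : Odd q ∨ 2 * r < q) :
    Subsingleton (EtCoh.H (CohB1.ProjSpace r k) (EtCoh.const _ (ZMod N)) q) :=
  Groth.Agent.Sga5.ProjCoh.odd_or_large k N hN r q hq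

theorem even (k : Type u) [Field k] [IsSepClosed k] (N : ℕ) (hN : (N : k) ≠ 0) (r i : ℕ)
    (hi : i ≤ r) :
    Nonempty (EtCoh.H (CohB1.ProjSpace r k) (EtCoh.const _ (ZMod N)) (2 * i) ≃+ ZMod N) :=
  Groth.Agent.Sga5.ProjCoh.even k N hN r i hi

end Groth.Agent.Lefpen.H527.Inputs
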