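import Groth.Agent.Lefpen.H527.QuotStr

/-!
# The split quadric, its flag of singular sections and the cells: commutative algebra

`e : Fin 2 ⊕ (Fin m ⊕ Fin m) ≃ Fin (n + 1)` numbers the homogeneous coordinates `u, v, x_i, y_i` of `P^n`:
* `q = u v + ∑ x_i y_i`;
* `J t = (q, x_0, …, x_{t-1})`;
* `θc t : k[T] → k[τ t]` with kernel `J t + (x_t - 1)`;
* `φM a : k[T] → k[T_0, …, T_m]`, graded, with kernel `J m + (u_a)`;
* `θM a : k[T] → k[T_1, …, T_m]` with kernel `J m + (u_a - 1)`.
-/

set_option autoImplicit false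
open CategoryTheory AlgebraicGeometry MvPolynomial
open Groth.Agent.Sga5.ProjSurj Groth.Agent.Lefpen.H713.GrQuot Groth.Agent.Lefpen.H527.QuotProj
universe u

namespace Groth.Agent.Lefpen.H527.Quad

/-- computing the kernel of a retraction of polynomial rings -/
theorem ker_eq_of {k : Type u} [CommRing k] {σ T : Type*} [CommRing T] [Algebra k T]
    (θ : MvPolynomial σ k →ₐ[k] T) (ρ : T →ₐ[k] MvPolynomial σ k) (I : Ideal (MvPolynomial σ k))
    (hI : I ≤ RingHom.ker (θ : MvPolynomial σ k →+* T))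
    (hX : ∀ c, Ideal.Quotient.mk I (X c) = Ideal.Quotient.mk I (ρ (θ (X c)))) :
    RingHom.ker (θ : MvPolynomial σ k →+* T) = I := by
  refine le_antisymm (fun p hp => ?_) hI
  have key : Ideal.Quotient.mkₐ k I = (Ideal.Quotient.mkₐ k I).comp (ρ.comp θ) := by
    apply MvPolynomial.algHom_ext
    intro c
    exact hX c
  have h := congrArg (fun g => g p) key
  have h2 : θ p = 0 := hp
  have h3 : Ideal.Quotient.mk I p = Ideal.Quotient.mk I (ρ (θ p)) := h
  rw [h2, map_zero, map_zero] at h3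
  exact Ideal.Quotient.eq_zero_iff_mem.1 h3

variable {k : Type u} [CommRing k] {n m : ℕ} (e : Fin 2 ⊕ (Fin m ⊕ Fin m) ≃ Fin (n + 1))

/-- the coordinate `u_a` (`u = u_0`, `v = u_1`) -/
noncomputable def U (a : Fin 2) : MvPolynomial (Fin (n + 1)) k := X (e (Sum.inl a))
/-- the coordinate `x_i` -/
noncomputable def xx (i : Fin m) : MvPolynomial (Fin (n + 1)) k := X (e (Sum.inr (Sum.inl i)))
/-- the coordinate `y_i` -/
noncomputable def yy (i : Fin m) : MvPolynomial (Fin (n + 1)) k := X (e (Sum.inr (Sum.inr i)))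

variable (k)

/-- the split quadratic form -/
noncomputable def qf : MvPolynomial (Fin (n + 1)) k := U e 0 * U e 1 + ∑ i, xx e i * yy e i

lemma U_mem (a : Fin 2) : (U e a : MvPolynomial (Fin (n + 1)) k) ∈ CohB1.polyGrading n k 1 :=
  isHomogeneous_X k _
lemma xx_mem (i : Fin m) : (xx e i : MvPolynomial (Fin (n + 1)) k) ∈ CohB1.polyGrading n k 1 :=
  isHomogeneous_X k _
lemma yy_mem (i : Fin m) : (yy e i : MvPolynomial (Fin (n + 1)) k) ∈ CohB1.polyGrading n k 1 :=
  isHomogeneous_X k _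

lemma qf_mem : qf k e ∈ CohB1.polyGrading n k 2 := by
  refine Submodule.add_mem _ ?_ (Submodule.sum_mem _ fun i _ => ?_)
  · exact (U_mem k e 0).mul (U_mem k e 1)
  · exact (xx_mem k e i).mul (yy_mem k e i)

/-- the split quadratic form as an element of the graded piece -/
noncomputable def qg : ↥(CohB1.polyGrading n k 2) := ⟨qf k e, qf_mem k e⟩

/-- `x_t`, or `0` for `t ≥ m` -/
noncomputable def xt (t : ℕ) : MvPolynomial (Fin (n + 1)) k := if h : t < m then xx e ⟨t, h⟩ else 0

lemma xt_mem (t : ℕ) : xt k e t ∈ CohB1.polyGrading n k 1 := by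
  unfold xt
  split_ifs with h
  · exact xx_mem k e _
  · exact Submodule.zero_mem _

/-- homogeneous principal ideals -/
noncomputable def prin {d : ℕ} {a : MvPolynomial (Fin (n + 1)) k} (ha : a ∈ CohB1.polyGrading n k d) :
    HomogeneousIdeal (CohB1.polyGrading n k) :=
  ⟨Ideal.span {a}, Ideal.homogeneous_span _ {a} (by
    rintro x rfl
    exact ⟨d, ha⟩)⟩

/-- the ideal `(q, x_0, …, x_{t-1})` -/
noncomputable def J : ℕ → HomogeneousIdeal (CohB1.polyGrading n k)
  | 0 => prin k (qf_mem k e)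
  | t + 1 => J t ⊔ prin k (xt_mem k e t)

lemma J_succ (t : ℕ) : (J k e (t + 1)).toIdeal = (J k e t).toIdeal ⊔ Ideal.span {xt k e t} := by
  rw [J, HomogeneousIdeal.toIdeal_sup]
  rfl

lemma J_zero : (J k e 0).toIdeal = Ideal.span {qf k e} := rfl

lemma J_le_iff (t : ℕ) (I : Ideal (MvPolynomial (Fin (n + 1)) k)) :
    (J k e t).toIdeal ≤ I ↔ qf k e ∈ I ∧ ∀ i : Fin m, (i : ℕ) < t → xx e i ∈ I := by
  induction t with
  | zero =>
    rw [J_zero, Ideal.span_singleton_le_iff_mem]
    exact ⟨fun h => ⟨h, fun i hi => absurd hi (Nat.not_lt_zero _)⟩, fun h => h.1⟩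
  | succ t ih =>
    rw [J_succ, sup_le_iff, ih, Ideal.span_singleton_le_iff_mem, and_assoc]
    refine and_congr_right fun _ => ⟨fun h i hi => ?_, fun h => ⟨fun i hi => h i (by omega), ?_⟩⟩
    · rcases Nat.lt_succ_iff_lt_or_eq.1 hi with h1 | h1
      · exact h.1 i h1
      · have h2 := h.2
        rw [xt, dif_pos (by rw [← h1]; exact i.2)] at h2
        convert h2
    · unfold xt
      split_ifs with h1
      · exact h ⟨t, h1⟩ (Nat.lt_succ_self t)
      · exact Ideal.zero_mem _

lemma qf_mem_J (t : ℕ) : qf k e ∈ (J k e t).toIdeal := ((J_le_iff k e t _).1 le_rfl).1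

lemma xx_mem_J (t : ℕ) (i : Fin m) (hi : (i : ℕ) < t) : xx e i ∈ (J k e t).toIdeal :=
  ((J_le_iff k e t _).1 le_rfl).2 i hi

lemma J_mono {s t : ℕ} (h : s ≤ t) : (J k e s).toIdeal ≤ (J k e t).toIdeal :=
  (J_le_iff k e s _).2 ⟨qf_mem_J k e t, fun i hi => xx_mem_J k e t i (by omega)⟩

section CellT

variable (t : Fin m)

/-- the variables which remain on the cell `x_t ≠ 0` of `V(J t)` -/
abbrev Tau : Type := {c : Fin 2 ⊕ (Fin m ⊕ Fin m) //
  c ≠ Sum.inr (Sum.inr t) ∧ ∀ i : Fin m, i ≤ t → c ≠ Sum.inr (Sum.inl i)}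

/-- auxiliary substitution -/
noncomputable def f0 (c : Fin 2 ⊕ (Fin m ⊕ Fin m)) : MvPolynomial (Tau t) k :=
  if h : c ≠ Sum.inr (Sum.inr t) ∧ ∀ i : Fin m, i ≤ t → c ≠ Sum.inr (Sum.inl i) then X ⟨c, h⟩
  else if c = Sum.inr (Sum.inl t) then 1 else 0

/-- the substitution on the cell -/
noncomputable def fc (c : Fin 2 ⊕ (Fin m ⊕ Fin m)) : MvPolynomial (Tau t) k :=
  if c = Sum.inr (Sum.inr t) then
    - (f0 k t (Sum.inl 0) * f0 k t (Sum.inl 1) +
      ∑ i ∈ Finset.univ.erase t, f0 k t (Sum.inr (Sum.inl i)) * f0 k t (Sum.inr (Sum.inr i)))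
  else f0 k t c

lemma f0_of (c : Tau t) : f0 k t c.1 = X c := by
  rw [f0, dif_pos c.2]

lemma f0_x : f0 k t (Sum.inr (Sum.inl t)) = 1 := by
  rw [f0, dif_neg (fun h => h.2 t le_rfl rfl), if_pos rfl]

lemma f0_x_lt (i : Fin m) (hi : i < t) : f0 k t (Sum.inr (Sum.inl i)) = 0 := by
  rw [f0, dif_neg (fun h => h.2 i hi.le rfl), if_neg]
  intro h
  have := Sum.inl_injective (Sum.inr_injective h)
  exact hi.ne this

lemma fc_of (c : Tau t) : fc k t c.1 = X c := by
  rw [fc, if_neg c.2.1, f0_of]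

lemma fc_inl (a : Fin 2) : fc k t (Sum.inl a) = f0 k t (Sum.inl a) := by
  rw [fc, if_neg (by simp)]

lemma fc_x (i : Fin m) : fc k t (Sum.inr (Sum.inl i)) = f0 k t (Sum.inr (Sum.inl i)) := by
  rw [fc, if_neg (by simp)]

lemma fc_y (i : Fin m) (hi : i ≠ t) :
    fc k t (Sum.inr (Sum.inr i)) = f0 k t (Sum.inr (Sum.inr i)) := by
  rw [fc, if_neg (by simpa using hi)]

/-- the substitution homomorphism -/
noncomputable def θc : MvPolynomial (Fin (n + 1)) k →ₐ[k] MvPolynomial (Tau t) k :=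
  aeval fun j => fc k t (e.symm j)

/-- its section -/
noncomputable def ρc : MvPolynomial (Tau t) k →ₐ[k] MvPolynomial (Fin (n + 1)) k :=
  aeval fun c => X (e c.1)

lemma θc_X (c : Fin 2 ⊕ (Fin m ⊕ Fin m)) : θc k e t (X (e c)) = fc k t c := by
  rw [θc, aeval_X, Equiv.symm_apply_apply]

lemma θc_ρc (p : MvPolynomial (Tau t) k) : θc k e t (ρc k e t p) = p := by
  have h : (θc k e t).comp (ρc k e t) = AlgHom.id k _ := by
    apply MvPolynomial.algHom_ext
    intro c
    rw [AlgHom.comp_apply, ρc, aeval_X, θc_X, fc_of]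
    rfl
  exact congrArg (fun g => g p) h

lemma θc_surjective : Function.Surjective (θc k e t) := fun p => ⟨_, θc_ρc k e t p⟩

lemma θc_qf : θc k e t (qf k e) = 0 := by
  rw [qf, map_add, map_mul, map_sum, ← Finset.add_sum_erase _ _ (Finset.mem_univ t)]
  have h1 : ∀ i ∈ Finset.univ.erase t, θc k e t (xx e i * yy e i) =
      f0 k t (Sum.inr (Sum.inl i)) * f0 k t (Sum.inr (Sum.inr i)) := by
    intro i hi
    rw [map_mul, xx, yy, θc_X, θc_X, fc_x, fc_y k t i (Finset.ne_of_mem_erase hi)]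
  rw [Finset.sum_congr rfl h1, map_mul, xx, yy, U, U, θc_X, θc_X, θc_X, θc_X, fc_x, fc_inl, fc_inl,
    f0_x, fc, if_pos rfl]
  ring

theorem ker_θc : RingHom.ker (θc k e t : MvPolynomial (Fin (n + 1)) k →+* MvPolynomial (Tau t) k) =
    (J k e t).toIdeal ⊔ Ideal.span {xt k e t - 1} := by
  have hxt : xt k e t = xx e t := by rw [xt, dif_pos t.2]
  set I := (J k e t).toIdeal ⊔ Ideal.span {xt k e t - 1} with hIdef
  have hJ : (J k e t).toIdeal ≤ I := le_sup_left
  have hx1 : Ideal.Quotient.mk I (xx e t) = 1 := by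
    have : xt k e t - 1 ∈ I := Ideal.mem_sup_right (Ideal.mem_span_singleton_self _)
    have h2 := Ideal.Quotient.eq_zero_iff_mem.2 this
    rwa [map_sub, map_one, sub_eq_zero, hxt] at h2
  have hx0 : ∀ i : Fin m, i < t → Ideal.Quotient.mk I (xx e i) = 0 := fun i hi =>
    Ideal.Quotient.eq_zero_iff_mem.2 (hJ (xx_mem_J k e t i hi))
  have hq : Ideal.Quotient.mk I (qf k e) = 0 :=
    Ideal.Quotient.eq_zero_iff_mem.2 (hJ (qf_mem_J k e t))
  have h0 : ∀ c, c ≠ Sum.inr (Sum.inr t) →
      Ideal.Quotient.mk I (ρc k e t (f0 k t c)) = Ideal.Quotient.mk I (X (e c)) := by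
    intro c hc
    by_cases h : c ≠ Sum.inr (Sum.inr t) ∧ ∀ i : Fin m, i ≤ t → c ≠ Sum.inr (Sum.inl i)
    · rw [f0, dif_pos h, ρc, aeval_X]
    · have h3 : ∃ i : Fin m, i ≤ t ∧ c = Sum.inr (Sum.inl i) := by
        by_contra hne
        push Not at hne
        exact h ⟨hc, hne⟩
      obtain ⟨i, hi, rfl⟩ := h3
      rcases hi.lt_or_eq with hi | rfl
      · rw [f0_x_lt k t i hi, map_zero, map_zero]
        exact (hx0 i hi).symm
      · rw [f0_x, map_one, map_one]
        exact hx1.symm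
  apply ker_eq_of (θc k e t) (ρc k e t)
  · rw [hIdef, sup_le_iff, J_le_iff, Ideal.span_singleton_le_iff_mem]
    refine ⟨⟨θc_qf k e t, fun i hi => ?_⟩, ?_⟩
    · change θc k e t (xx e i) = 0
      rw [xx, θc_X, fc_x, f0_x_lt k t i hi]
    · change θc k e t (xt k e t - 1) = 0
      rw [hxt, map_sub, xx, θc_X, fc_x, f0_x, map_one, sub_self]
  · intro j
    obtain ⟨c, rfl⟩ := e.surjective j
    rw [θc_X]
    by_cases hc : c = Sum.inr (Sum.inr t)
    · subst hc
      rw [fc, if_pos rfl]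
      have h1 : Ideal.Quotient.mk I (ρc k e t (∑ i ∈ Finset.univ.erase t,
          f0 k t (Sum.inr (Sum.inl i)) * f0 k t (Sum.inr (Sum.inr i)))) =
          ∑ i ∈ Finset.univ.erase t, Ideal.Quotient.mk I (xx e i * yy e i) := by
        rw [map_sum, map_sum]
        refine Finset.sum_congr rfl fun i hi => ?_
        rw [map_mul, map_mul, map_mul, h0 _ (by simp), h0 _ (by
          simpa using Finset.ne_of_mem_erase hi)]
        rfl
      rw [map_neg, map_neg, map_add, map_add, map_mul, map_mul, h0 _ (by simp), h0 _ (by simp), h1]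
      rw [qf, map_add, map_mul, map_sum, ← Finset.add_sum_erase _ _ (Finset.mem_univ t), map_mul,
        hx1, one_mul] at hq
      change Ideal.Quotient.mk I (yy e t) = - (Ideal.Quotient.mk I (U e 0) *
        Ideal.Quotient.mk I (U e 1) + ∑ i ∈ Finset.univ.erase t, Ideal.Quotient.mk I (xx e i * yy e i))
      linear_combination hq
    · rw [fc, if_neg hc, h0 c hc]

end CellT

/-- the swap of the two indices -/
def op : Fin 2 ≃ Fin 2 := Equiv.swap 0 1

lemma op_op (a : Fin 2) : op (op a) = a := by fin_cases a <;> rfl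
lemma op_ne (a : Fin 2) : op a ≠ a := by fin_cases a <;> decide
lemma eq_op_of_ne {a b : Fin 2} (h : b ≠ a) : b = op a := by
  fin_cases a <;> fin_cases b <;> first | rfl | exact absurd rfl h
lemma op_zero : op 0 = 1 := rfl
lemma op_one : op 1 = 0 := rfl

lemma qf_eq (a : Fin 2) : qf k e = U e a * U e (op a) + ∑ i, xx e i * yy e i := by
  fin_cases a
  · rfl
  · rw [qf, mul_comm (U e 0)]; rfl

section Plane

variable (a : Fin 2)

/-- the substitution for the plane `u_a = 0, x = 0` -/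
noncomputable def fM : Fin 2 ⊕ (Fin m ⊕ Fin m) → MvPolynomial (Fin (m + 1)) k
  | Sum.inl b => if b = a then 0 else X (Fin.last m)
  | Sum.inr (Sum.inl _) => 0
  | Sum.inr (Sum.inr i) => X (Fin.castSucc i)

/-- the homomorphism `k[T] → k[T_0, …, T_m]` defining the plane -/
noncomputable def φM : MvPolynomial (Fin (n + 1)) k →ₐ[k] MvPolynomial (Fin (m + 1)) k :=
  aeval fun j => fM k a (e.symm j)

lemma φM_X (c : Fin 2 ⊕ (Fin m ⊕ Fin m)) : φM k e a (X (e c)) = fM k a c := by
  rw [φM, aeval_X, Equiv.symm_apply_apply]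

lemma φM_U_self : φM k e a (U e a) = 0 := by rw [U, φM_X, fM, if_pos rfl]
lemma φM_U_op : φM k e a (U e (op a)) = X (Fin.last m) := by rw [U, φM_X, fM, if_neg (op_ne a)]
lemma φM_xx (i : Fin m) : φM k e a (xx e i) = 0 := by rw [xx, φM_X, fM]
lemma φM_yy (i : Fin m) : φM k e a (yy e i) = X (Fin.castSucc i) := by rw [yy, φM_X, fM]

/-- its section -/
noncomputable def ρM : MvPolynomial (Fin (m + 1)) k →ₐ[k] MvPolynomial (Fin (n + 1)) k :=
  aeval (Fin.lastCases (U e (op a)) (fun i => yy e i))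

lemma ρM_last : ρM k e a (X (Fin.last m)) = U e (op a) := by
  rw [ρM, aeval_X, Fin.lastCases_last]
lemma ρM_castSucc (i : Fin m) : ρM k e a (X (Fin.castSucc i)) = yy e i := by
  rw [ρM, aeval_X, Fin.lastCases_castSucc]

lemma φM_ρM (p : MvPolynomial (Fin (m + 1)) k) : φM k e a (ρM k e a p) = p := by
  have h : (φM k e a).comp (ρM k e a) = AlgHom.id k _ := by
    apply MvPolynomial.algHom_ext
    intro c
    rw [AlgHom.comp_apply]
    refine Fin.lastCases ?_ (fun i => ?_) c
    · rw [ρM_last, φM_U_op]; rfl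
    · rw [ρM_castSucc, φM_yy]; rfl
  exact congrArg (fun g => g p) h

lemma φM_qf : φM k e a (qf k e) = 0 := by
  rw [qf_eq k e a, map_add, map_mul, map_sum, φM_U_self, zero_mul, zero_add]
  exact Finset.sum_eq_zero fun i _ => by rw [map_mul, φM_xx, zero_mul]

theorem ker_φM : RingHom.ker (φM k e a : MvPolynomial (Fin (n + 1)) k →+* MvPolynomial (Fin (m + 1)) k) =
    (J k e m).toIdeal ⊔ Ideal.span {U e a} := by
  set I := (J k e m).toIdeal ⊔ Ideal.span {(U e a : MvPolynomial (Fin (n + 1)) k)} with hIdef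
  have hJ : (J k e m).toIdeal ≤ I := le_sup_left
  have hu : Ideal.Quotient.mk I (U e a) = 0 :=
    Ideal.Quotient.eq_zero_iff_mem.2 (Ideal.mem_sup_right (Ideal.mem_span_singleton_self _))
  have hx0 : ∀ i : Fin m, Ideal.Quotient.mk I (xx e i) = 0 := fun i =>
    Ideal.Quotient.eq_zero_iff_mem.2 (hJ (xx_mem_J k e m i i.2))
  apply ker_eq_of (φM k e a) (ρM k e a)
  · rw [hIdef, sup_le_iff, J_le_iff, Ideal.span_singleton_le_iff_mem]
    exact ⟨⟨φM_qf k e a, fun i _ => φM_xx k e a i⟩, φM_U_self k e a⟩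
  · intro j
    obtain ⟨c, rfl⟩ := e.surjective j
    rcases c with b | i | i
    · by_cases hb : b = a
      · subst hb
        change Ideal.Quotient.mk I (U e b) = Ideal.Quotient.mk I (ρM k e b (φM k e b (U e b)))
        rw [φM_U_self, map_zero, map_zero, hu]
      · obtain rfl := eq_op_of_ne hb
        change Ideal.Quotient.mk I (U e (op a)) =
          Ideal.Quotient.mk I (ρM k e a (φM k e a (U e (op a))))
        rw [φM_U_op, ρM_last]
    · change Ideal.Quotient.mk I (xx e i) = Ideal.Quotient.mk I (ρM k e a (φM k e a (xx e i)))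
      rw [φM_xx, map_zero, map_zero, hx0]
    · change Ideal.Quotient.mk I (yy e i) = Ideal.Quotient.mk I (ρM k e a (φM k e a (yy e i)))
      rw [φM_yy, ρM_castSucc]

/-- the substitution for the cell `u_a ≠ 0` of `V(J m)` -/
noncomputable def gM : Fin 2 ⊕ (Fin m ⊕ Fin m) → MvPolynomial (Fin m) k
  | Sum.inl b => if b = a then 1 else 0
  | Sum.inr (Sum.inl _) => 0
  | Sum.inr (Sum.inr i) => X i

/-- the homomorphism `k[T] → k[T_1, …, T_m]` defining the cell -/
noncomputable def θM : MvPolynomial (Fin (n + 1)) k →ₐ[k] MvPolynomial (Fin m) k :=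
  aeval fun j => gM k a (e.symm j)

lemma θM_X (c : Fin 2 ⊕ (Fin m ⊕ Fin m)) : θM k e a (X (e c)) = gM k a c := by
  rw [θM, aeval_X, Equiv.symm_apply_apply]

lemma θM_U_self : θM k e a (U e a) = 1 := by rw [U, θM_X, gM, if_pos rfl]
lemma θM_U_op : θM k e a (U e (op a)) = 0 := by rw [U, θM_X, gM, if_neg (op_ne a)]
lemma θM_xx (i : Fin m) : θM k e a (xx e i) = 0 := by rw [xx, θM_X, gM]
lemma θM_yy (i : Fin m) : θM k e a (yy e i) = X i := by rw [yy, θM_X, gM]

/-- its section -/
noncomputable def σM : MvPolynomial (Fin m) k →ₐ[k] MvPolynomial (Fin (n + 1)) k :=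
  aeval fun i => yy e i

lemma σM_X (i : Fin m) : σM k e (X i) = yy e i := by rw [σM, aeval_X]

lemma θM_σM (p : MvPolynomial (Fin m) k) : θM k e a (σM k e p) = p := by
  have h : (θM k e a).comp (σM k e) = AlgHom.id k _ := by
    apply MvPolynomial.algHom_ext
    intro c
    rw [AlgHom.comp_apply, σM_X, θM_yy]; rfl
  exact congrArg (fun g => g p) h

lemma θM_surjective : Function.Surjective (θM k e a) := fun p => ⟨_, θM_σM k e a p⟩

lemma θM_qf : θM k e a (qf k e) = 0 := by
  rw [qf_eq k e a, map_add, map_mul, map_sum, θM_U_op, mul_zero, zero_add]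
  exact Finset.sum_eq_zero fun i _ => by rw [map_mul, θM_xx, zero_mul]

theorem ker_θM : RingHom.ker (θM k e a : MvPolynomial (Fin (n + 1)) k →+* MvPolynomial (Fin m) k) =
    (J k e m).toIdeal ⊔ Ideal.span {U e a - 1} := by
  set I := (J k e m).toIdeal ⊔ Ideal.span {(U e a : MvPolynomial (Fin (n + 1)) k) - 1} with hIdef
  have hJ : (J k e m).toIdeal ≤ I := le_sup_left
  have hu : Ideal.Quotient.mk I (U e a) = 1 := by
    have := Ideal.Quotient.eq_zero_iff_mem.2 (show (U e a : MvPolynomial (Fin (n + 1)) k) - 1 ∈ I from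
      Ideal.mem_sup_right (Ideal.mem_span_singleton_self _))
    rwa [map_sub, map_one, sub_eq_zero] at this
  have hx0 : ∀ i : Fin m, Ideal.Quotient.mk I (xx e i) = 0 := fun i =>
    Ideal.Quotient.eq_zero_iff_mem.2 (hJ (xx_mem_J k e m i i.2))
  have hq : Ideal.Quotient.mk I (qf k e) = 0 :=
    Ideal.Quotient.eq_zero_iff_mem.2 (hJ (qf_mem_J k e m))
  have huo : Ideal.Quotient.mk I (U e (op a)) = 0 := by
    rw [qf_eq k e a, map_add, map_mul, map_sum, hu, one_mul] at hq
    rw [Finset.sum_eq_zero fun i _ => by rw [map_mul, hx0, zero_mul], add_zero] at hq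
    exact hq
  apply ker_eq_of (θM k e a) (σM k e)
  · rw [hIdef, sup_le_iff, J_le_iff, Ideal.span_singleton_le_iff_mem]
    refine ⟨⟨θM_qf k e a, fun i _ => θM_xx k e a i⟩, ?_⟩
    change θM k e a (U e a - 1) = 0
    rw [map_sub, θM_U_self, map_one, sub_self]
  · intro j
    obtain ⟨c, rfl⟩ := e.surjective j
    rcases c with b | i | i
    · by_cases hb : b = a
      · subst hb
        change Ideal.Quotient.mk I (U e b) = Ideal.Quotient.mk I (σM k e (θM k e b (U e b)))
        rw [θM_U_self, map_one, map_one, hu]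
      · obtain rfl := eq_op_of_ne hb
        change Ideal.Quotient.mk I (U e (op a)) =
          Ideal.Quotient.mk I (σM k e (θM k e a (U e (op a))))
        rw [θM_U_op, map_zero, map_zero, huo]
    · change Ideal.Quotient.mk I (xx e i) = Ideal.Quotient.mk I (σM k e (θM k e a (xx e i)))
      rw [θM_xx, map_zero, map_zero, hx0]
    · change Ideal.Quotient.mk I (yy e i) = Ideal.Quotient.mk I (σM k e (θM k e a (yy e i)))
      rw [θM_yy, σM_X]

lemma homog_aeval {σ τ : Type*} (f : σ → MvPolynomial τ k) (hf : ∀ i, (f i).IsHomogeneous 1)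
    {d : ℕ} {p : MvPolynomial σ k} (hp : p.IsHomogeneous d) : (aeval f p).IsHomogeneous d := by
  have := hp.eval₂ (n := 1) C f (fun r => isHomogeneous_C _ r) hf
  rw [one_mul] at this
  exact this

/-- `φM` as a graded homomorphism -/
noncomputable def φMg : CohB1.polyGrading n k →+*ᵍ CohB1.polyGrading m k where
  toRingHom := (φM k e a : MvPolynomial (Fin (n + 1)) k →+* MvPolynomial (Fin (m + 1)) k)
  map_mem := fun h => homog_aeval k _ (fun j => by
    rcases e.symm j with b | i | i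
    · change (if b = a then (0 : MvPolynomial (Fin (m + 1)) k) else X (Fin.last m)).IsHomogeneous 1
      split_ifs
      · exact isHomogeneous_zero _ _ _
      · exact isHomogeneous_X _ _
    · exact isHomogeneous_zero _ _ _
    · exact isHomogeneous_X _ _) h

lemma φMg_apply (p : MvPolynomial (Fin (n + 1)) k) : φMg k e a p = φM k e a p := rfl

lemma degSurj_φMg : DegSurj (φMg k e a) := by
  intro d b hb
  refine ⟨ρM k e a b, ?_, φM_ρM k e a b⟩
  refine homog_aeval k _ (fun j => ?_) hb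
  refine Fin.lastCases ?_ (fun i => ?_) j
  · rw [Fin.lastCases_last]; exact U_mem k e _
  · rw [Fin.lastCases_castSucc]; exact yy_mem k e i

theorem ker_φMg : RingHom.ker (φMg k e a : MvPolynomial (Fin (n + 1)) k →+* MvPolynomial (Fin (m + 1)) k) =
    (J k e m).toIdeal ⊔ Ideal.span {U e a} := ker_φM k e a

end Plane

section Swap

/-- the permutation of the coordinates exchanging `u` and `v` -/
def swE : Fin (n + 1) ≃ Fin (n + 1) :=
  e.symm.trans ((Equiv.sumCongr op (Equiv.refl _)).trans e)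

/-- the automorphism exchanging `u` and `v` -/
noncomputable def sw : CohB1.polyGrading n k →+*ᵍ CohB1.polyGrading n k where
  toRingHom := (rename (swE e) : MvPolynomial (Fin (n + 1)) k →ₐ[k] _)
  map_mem := fun h => IsHomogeneous.rename_isHomogeneous h

lemma sw_apply (p : MvPolynomial (Fin (n + 1)) k) : sw k e p = rename (swE e) p := rfl

lemma sw_U (a : Fin 2) : sw k e (U e a) = U e (op a) := by
  rw [sw_apply, U, rename_X, swE]; simp [U]
lemma sw_xx (i : Fin m) : sw k e (xx e i) = xx e i := by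
  rw [sw_apply, xx, rename_X, swE]; simp
lemma sw_yy (i : Fin m) : sw k e (yy e i) = yy e i := by
  rw [sw_apply, yy, rename_X, swE]; simp

lemma swE_swE (i : Fin (n + 1)) : swE e (swE e i) = i := by
  obtain ⟨c, rfl⟩ := e.surjective i
  rcases c with b | i | i <;> simp [swE, op_op]

lemma sw_sw (p : MvPolynomial (Fin (n + 1)) k) : sw k e (sw k e p) = p := by
  rw [sw_apply, sw_apply, rename_rename]
  have : swE e ∘ swE e = id := funext (swE_swE e)
  rw [this, rename_id]
  rfl

lemma sw_qf : sw k e (qf k e) = qf k e := by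
  rw [qf, map_add, map_mul, map_sum, sw_U, sw_U, op_zero, op_one, mul_comm]
  congr 1
  exact Finset.sum_congr rfl fun i _ => by rw [map_mul, sw_xx, sw_yy]

lemma degSurj_sw : DegSurj (sw k e) := fun _ b hb => ⟨sw k e b, (sw k e).2 hb, sw_sw k e b⟩

lemma φMg_sw (a : Fin 2) (p : MvPolynomial (Fin (n + 1)) k) :
    φMg k e a (sw k e p) = φMg k e (op a) p := by
  have h : (φM k e a).comp (rename (swE e)) = φM k e (op a) := by
    apply MvPolynomial.algHom_ext
    intro j
    obtain ⟨c, rfl⟩ := e.surjective j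
    rw [AlgHom.comp_apply]
    rcases c with b | i | i
    · change φM k e a (sw k e (U e b)) = φM k e (op a) (U e b)
      rw [sw_U]
      by_cases hb : b = a
      · subst hb
        rw [φM_U_op]
        have := φM_U_op k e (op b)
        rw [op_op] at this
        exact this.symm
      · obtain rfl := eq_op_of_ne hb
        rw [op_op, φM_U_self, φM_U_self]
    · change φM k e a (sw k e (xx e i)) = φM k e (op a) (xx e i)
      rw [sw_xx, φM_xx, φM_xx]
    · change φM k e a (sw k e (yy e i)) = φM k e (op a) (yy e i)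
      rw [sw_yy, φM_yy, φM_yy]
  exact congrArg (fun g => g p) h

end Swap

end Groth.Agent.Lefpen.H527.Quad
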