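import Groth.Agent.Sga5.ProjHyper
import Groth.Agent.Lefpen.H713.GrQuot

/-!
# `Proj` of quotients of a graded algebra, and cells

`𝒜` a graded `k`-algebra, `J` a homogeneous ideal:
* `P 𝒜 J = Proj (A / J)`, `emb J : P 𝒜 J ⟶ Proj 𝒜` closed immersion;
* `pl J φ : Proj ℬ ⟶ P 𝒜 J` for a graded surjection `φ : 𝒜 → ℬ` killing `J`, closed immersion; `pl_emb`;
* `cell J f θ : Spec T ⟶ P 𝒜 J` for `f` of degree one and `θ : A → T` surjective with kernel `J + (f - 1)`: open
  immersion onto `D_+(f)`;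
* `isCompl_range`: if `ker φ = J + (f)`, the images of `pl J φ` and `cell J f θ` are complementary.
-/

set_option autoImplicit false
open CategoryTheory AlgebraicGeometry HomogeneousLocalization
open Groth.Agent.Sga5.ProjSurj Groth.Agent.Lefpen.H713.GrQuot
universe u

namespace Groth.Agent.Lefpen.H527.QuotProj

section Degree

variable {k B : Type u} [CommRing k] [CommRing B] [Algebra k B] (ℬ : ℕ → Submodule k B) [GradedAlgebra ℬ]

/-- A homogeneous element of `(f - 1)`, `f` of degree one, is killed by a power of `f`. -/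
theorem exists_pow_mul_eq_zero {f : B} (hf : f ∈ ℬ 1) {n : ℕ} {a : B} (ha : a ∈ ℬ n)
    (h : a ∈ Ideal.span {f - 1}) : ∃ N, f ^ N * a = 0 := by
  classical
  obtain ⟨c, rfl⟩ := Ideal.mem_span_singleton'.1 h
  set a := c * (f - 1) with hac
  have hsub : a = f * c - c := by rw [hac]; ring
  have hdec : ∀ j, (DirectSum.decompose ℬ a j : B) = if j = n then a else 0 := by
    intro j
    split_ifs with hj
    · subst hj; exact DirectSum.decompose_of_mem_same ℬ ha
    · exact DirectSum.decompose_of_mem_ne ℬ ha (Ne.symm hj)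
  have hdec2 : ∀ j, (DirectSum.decompose ℬ a j : B) =
      (DirectSum.decompose ℬ (f * c) j : B) - (DirectSum.decompose ℬ c j : B) := by
    intro j
    rw [hsub, DirectSum.decompose_sub]
    rfl
  have h0 : (DirectSum.decompose ℬ (f * c) 0 : B) = 0 :=
    DirectSum.coe_decompose_mul_of_left_mem_of_not_le ℬ hf (by omega)
  have hs : ∀ j, (DirectSum.decompose ℬ (f * c) (j + 1) : B) = f * (DirectSum.decompose ℬ c j : B) := by
    intro j
    rw [add_comm j 1]
    exact DirectSum.coe_decompose_mul_add_of_left_mem ℬ hf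
  have e0 : (DirectSum.decompose ℬ c 0 : B) = - (if 0 = n then a else 0) := by
    have := hdec2 0
    rw [hdec, h0, zero_sub] at this
    rw [this, neg_neg]
  have es : ∀ j, (DirectSum.decompose ℬ c (j + 1) : B) =
      f * (DirectSum.decompose ℬ c j : B) - (if j + 1 = n then a else 0) := by
    intro j
    have := hdec2 (j + 1)
    rw [hdec, hs] at this
    rw [this]; ring
  have hA : ∀ j, j < n → (DirectSum.decompose ℬ c j : B) = 0 := by
    intro j
    induction j with
    | zero => intro hj; rw [e0, if_neg (by omega), neg_zero]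
    | succ j ih => intro hj; rw [es, ih (by omega), if_neg (by omega)]; ring
  have hB : (DirectSum.decompose ℬ c n : B) = - a := by
    rcases n with _ | n
    · rw [e0, if_pos rfl]
    · rw [es, hA n (by omega), if_pos rfl]; ring
  have hC : ∀ i, (DirectSum.decompose ℬ c (n + i) : B) = - (f ^ i * a) := by
    intro i
    induction i with
    | zero => rw [add_zero, hB, pow_zero, one_mul]
    | succ i ih => rw [← add_assoc, es, ih, if_neg (by omega), pow_succ]; ring
  obtain ⟨M, hM⟩ : ∃ M, ∀ j, M ≤ j → (DirectSum.decompose ℬ c j : B) = 0 := by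
    refine ⟨(DirectSum.decompose ℬ c).support.sup id + 1, fun j hj => ?_⟩
    by_contra hne
    have h1 : j ∈ (DirectSum.decompose ℬ c).support := by
      rw [DFinsupp.mem_support_iff]
      intro h2
      exact hne (by rw [h2]; rfl)
    have := Finset.le_sup (f := id) h1
    simp only [id_eq] at this
    omega
  refine ⟨M, ?_⟩
  have := hC M
  rw [hM (n + M) (by omega)] at this
  rw [← neg_eq_zero, ← this]

variable {T : Type u} [CommRing T] (f : B) (hf : f ∈ ℬ 1) (θ : B →+* T) (h1 : θ f = 1)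

/-- `b / f ^ n ↦ θ b` -/
noncomputable def toT : Away ℬ f →+* T :=
  (IsLocalization.Away.lift (S := Localization.Away f) f (g := θ) (by rw [h1]; exact isUnit_one)).comp
    (algebraMap (Away ℬ f) (Localization.Away f))

theorem toT_mk {e : ℕ} (a : B) (ha : a ∈ ℬ (e • 1)) :
    toT ℬ f θ h1 (Away.mk ℬ hf e a ha) = θ a := by
  rw [toT, RingHom.comp_apply, HomogeneousLocalization.algebraMap_apply, Away.val_mk]
  have h : Localization.mk a (⟨f ^ e, e, rfl⟩ : Submonoid.powers f) *
      algebraMap B (Localization.Away f) (f ^ e) = algebraMap B (Localization.Away f) a := by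
    rw [Localization.mk_eq_mk']
    exact IsLocalization.mk'_spec (Localization.Away f) a (⟨f ^ e, e, rfl⟩ : Submonoid.powers f)
  have h2 := congrArg (IsLocalization.Away.lift (S := Localization.Away f) f (g := θ)
    (by rw [h1]; exact isUnit_one)) h
  rw [map_mul, IsLocalization.Away.lift_eq, IsLocalization.Away.lift_eq] at h2
  have h3 : θ (f ^ e) = 1 := by rw [map_pow, h1, one_pow]
  exact (mul_one _).symm.trans ((congrArg _ h3.symm).trans h2)

include hf in
theorem toT_bijective (hs : Function.Surjective θ) (hk : RingHom.ker θ = Ideal.span {f - 1}) :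
    Function.Bijective (toT ℬ f θ h1) := by
  classical
  constructor
  · rw [injective_iff_map_eq_zero]
    intro z hz
    obtain ⟨e, a, ha, rfl⟩ := Away.mk_surjective ℬ hf z
    rw [toT_mk] at hz
    have h3 : a ∈ Ideal.span {f - 1} := by rw [← hk]; exact hz
    obtain ⟨N, hN⟩ := exists_pow_mul_eq_zero ℬ hf ha h3
    apply HomogeneousLocalization.val_injective
    rw [Away.val_mk, HomogeneousLocalization.val_zero, ← Localization.mk_zero 1,
      Localization.mk_eq_mk_iff, Localization.r_iff_exists]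
    refine ⟨⟨f ^ N, N, rfl⟩, ?_⟩
    simp only [Submonoid.coe_one, one_mul, mul_zero]
    exact hN
  · intro t
    obtain ⟨b, rfl⟩ := hs t
    have h4 : ∀ i, (DirectSum.decompose ℬ b i : B) ∈ ℬ (i • 1) := by
      intro i; rw [smul_eq_mul, mul_one]; exact SetLike.coe_mem _
    refine ⟨∑ i ∈ (DirectSum.decompose ℬ b).support,
      Away.mk ℬ hf i (DirectSum.decompose ℬ b i : B) (h4 i), ?_⟩
    rw [map_sum]
    simp only [toT_mk]
    rw [← map_sum, DirectSum.sum_support_decompose]

end Degree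

section Map

variable {A B C σ τ υ : Type u} [CommRing A] [SetLike σ A] [AddSubgroupClass σ A]
  [CommRing B] [SetLike τ B] [AddSubgroupClass τ B] [CommRing C] [SetLike υ C] [AddSubgroupClass υ C]
  {𝒜 : ℕ → σ} {ℬ : ℕ → τ} {𝒞 : ℕ → υ} [GradedRing 𝒜] [GradedRing ℬ] [GradedRing 𝒞]

theorem map_map (f : 𝒜 →+*ᵍ ℬ) (g : ℬ →+*ᵍ 𝒞) (h : 𝒜 →+*ᵍ 𝒞) (e : ∀ a, g (f a) = h a)
    (hf : HomogeneousIdeal.irrelevant ℬ ≤ (HomogeneousIdeal.irrelevant 𝒜).map f)
    (hg : HomogeneousIdeal.irrelevant 𝒞 ≤ (HomogeneousIdeal.irrelevant ℬ).map g)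
    (hh : HomogeneousIdeal.irrelevant 𝒞 ≤ (HomogeneousIdeal.irrelevant 𝒜).map h) :
    Proj.map g hg ≫ Proj.map f hf = Proj.map h hh := by
  obtain rfl : h = g.comp f := by
    apply DFunLike.ext
    intro a
    exact (e a).symm
  exact (Proj.map_comp f g hf hg).symm

end Map

section Quot

variable {k A : Type u} [CommRing k] [CommRing A] [Algebra k A] {𝒜 : ℕ → Submodule k A} [GradedAlgebra 𝒜]
  (J : HomogeneousIdeal 𝒜)

/-- the grading of the quotient -/
noncomputable def gr : ℕ → Submodule k (A ⧸ J.toIdeal) := quotGr 𝒜 J.toIdeal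

noncomputable instance : GradedAlgebra (gr J) :=
  quotGraded 𝒜 (homog_of_isHomogeneous 𝒜 J.isHomogeneous)

/-- the graded projection -/
noncomputable def prG : 𝒜 →+*ᵍ gr J where
  toRingHom := Ideal.Quotient.mk _
  map_mem := fun h => mk_mem_quotGr 𝒜 _ h

lemma prG_apply (a : A) : prG J a = Ideal.Quotient.mk _ a := rfl

lemma degSurj_prG : DegSurj (prG J) := by
  rintro i _ ⟨a, ha, rfl⟩
  exact ⟨a, ha, rfl⟩

/-- `Proj` of the quotient -/
noncomputable def P : Scheme.{u} := Proj (gr J)

/-- the closed immersion into `Proj 𝒜` -/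
noncomputable def emb : P J ⟶ Proj 𝒜 := Proj.map (prG J) (irrelevant_le_map (degSurj_prG J))

instance isClosedImmersion_emb : IsClosedImmersion (emb J) :=
  isClosedImmersion_map _ (degSurj_prG J)

variable {B τ : Type u} [CommRing B] [SetLike τ B] [AddSubgroupClass τ B] {ℬ : ℕ → τ} [GradedRing ℬ]
  (φ : 𝒜 →+*ᵍ ℬ) (hφ : DegSurj φ) (hJ : J.toIdeal ≤ RingHom.ker (φ : A →+* B))

/-- the graded homomorphism from the quotient -/
noncomputable def ql : gr J →+*ᵍ ℬ where
  toRingHom := Ideal.Quotient.lift J.toIdeal (φ : A →+* B) hJ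
  map_mem := by
    rintro i _ ⟨a, ha, rfl⟩
    exact φ.2 ha

lemma ql_mk (a : A) : ql J φ hJ (Ideal.Quotient.mk _ a) = φ a := rfl

include hφ in
lemma degSurj_ql : DegSurj (ql J φ hJ) := by
  intro i b hb
  obtain ⟨a, ha, rfl⟩ := hφ i b hb
  exact ⟨Ideal.Quotient.mk _ a, mk_mem_quotGr 𝒜 _ ha, rfl⟩

/-- the closed immersion `Proj ℬ ⟶ P J` -/
noncomputable def pl : Proj ℬ ⟶ P J := Proj.map (ql J φ hJ) (irrelevant_le_map (degSurj_ql J φ hφ hJ))

instance isClosedImmersion_pl : IsClosedImmersion (pl J φ hφ hJ) :=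
  isClosedImmersion_map _ (degSurj_ql J φ hφ hJ)

@[reassoc]
theorem pl_emb : pl J φ hφ hJ ≫ emb J = Proj.map φ (irrelevant_le_map hφ) :=
  map_map (prG J) (ql J φ hJ) φ (fun _ => rfl) _ _ _

theorem mem_range_pl_iff (x : P J) : x ∈ Set.range (pl J φ hφ hJ) ↔
    RingHom.ker (ql J φ hJ : A ⧸ J.toIdeal →+* B) ≤
      (ProjectiveSpectrum.asHomogeneousIdeal (𝒜 := gr J) x).toIdeal :=
  mem_range_map_iff _ (degSurj_ql J φ hφ hJ) x

theorem mem_range_pl_iff' (s : A) (hk : RingHom.ker (φ : A →+* B) = J.toIdeal ⊔ Ideal.span {s}) (x : P J) :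
    x ∈ Set.range (pl J φ hφ hJ) ↔
      Ideal.Quotient.mk _ s ∈ (ProjectiveSpectrum.asHomogeneousIdeal (𝒜 := gr J) x).toIdeal := by
  rw [mem_range_pl_iff]
  constructor
  · intro h
    apply h
    have h1 : s ∈ RingHom.ker (φ : A →+* B) := by
      rw [hk]; exact Ideal.mem_sup_right (Ideal.mem_span_singleton_self s)
    exact h1
  · intro h y hy
    obtain ⟨a, rfl⟩ := Ideal.Quotient.mk_surjective y
    have h2 : a ∈ RingHom.ker (φ : A →+* B) := hy
    rw [hk] at h2
    obtain ⟨b, hb, c, hc, rfl⟩ := Submodule.mem_sup.1 h2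
    obtain ⟨d, rfl⟩ := Ideal.mem_span_singleton'.1 hc
    rw [map_add, Ideal.Quotient.eq_zero_iff_mem.2 hb, zero_add, map_mul]
    exact Ideal.mul_mem_left _ _ h

variable {T : Type u} [CommRing T] (s : A) (hs : s ∈ 𝒜 1) (θ : A →+* T)
  (hθ : Function.Surjective θ) (hker : RingHom.ker θ = J.toIdeal ⊔ Ideal.span {s - 1})

include hker in
lemma le_ker : J.toIdeal ≤ RingHom.ker θ := by rw [hker]; exact le_sup_left

/-- the induced map on the quotient -/
noncomputable def bar : A ⧸ J.toIdeal →+* T := Ideal.Quotient.lift J.toIdeal θ (le_ker J s θ hker)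

include hker in
lemma map_s : θ s = 1 := by
  have h : s - 1 ∈ RingHom.ker θ := by
    rw [hker]; exact Ideal.mem_sup_right (Ideal.mem_span_singleton_self _)
  have h2 : θ (s - 1) = 0 := h
  rwa [map_sub, map_one, sub_eq_zero] at h2

lemma bar_s : bar J s θ hker (prG J s) = 1 := map_s J s θ hker

lemma ker_bar : RingHom.ker (bar J s θ hker) = Ideal.span {prG J s - 1} := by
  ext y
  obtain ⟨a, rfl⟩ := Ideal.Quotient.mk_surjective y
  have h0 : Ideal.Quotient.mk J.toIdeal a ∈ RingHom.ker (bar J s θ hker) ↔ a ∈ RingHom.ker θ := Iff.rfl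
  rw [h0, hker]
  constructor
  · intro h
    obtain ⟨b, hb, c, hc, rfl⟩ := Submodule.mem_sup.1 h
    obtain ⟨d, rfl⟩ := Ideal.mem_span_singleton'.1 hc
    rw [map_add, Ideal.Quotient.eq_zero_iff_mem.2 hb, zero_add, map_mul, map_sub, map_one]
    exact Ideal.mul_mem_left _ _ (Ideal.mem_span_singleton_self _)
  · intro h
    obtain ⟨d, hd⟩ := Ideal.mem_span_singleton'.1 h
    obtain ⟨d, rfl⟩ := Ideal.Quotient.mk_surjective d
    have h1 : Ideal.Quotient.mk J.toIdeal (a - d * (s - 1)) = 0 := by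
      rw [map_sub, ← hd, map_mul, map_sub, map_one]
      exact sub_self _
    rw [Ideal.Quotient.eq_zero_iff_mem] at h1
    refine Submodule.mem_sup.2 ⟨_, h1, d * (s - 1), Ideal.mem_span_singleton'.2 ⟨d, rfl⟩, by ring⟩

/-- `(A / J)_(s) ≃ T` -/
noncomputable def toTEquiv : Away (gr J) (prG J s) ≃+* T :=
  RingEquiv.ofBijective (toT (gr J) (prG J s) (bar J s θ hker) (bar_s J s θ hker))
    (toT_bijective (gr J) (prG J s) ((prG J).2 hs) (bar J s θ hker) (bar_s J s θ hker)
      (Ideal.Quotient.lift_surjective_of_surjective _ _ hθ) (ker_bar J s θ hker))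

/-- the open immersion `Spec T ⟶ P J` onto `D_+(s)` -/
noncomputable def cell : Spec (CommRingCat.of T) ⟶ P J :=
  Spec.map (CommRingCat.ofHom (toTEquiv J s hs θ hθ hker).toRingHom) ≫
    Proj.awayι (gr J) (prG J s) ((prG J).2 hs) Nat.one_pos

instance isIso_toTEquiv : IsIso (Spec.map (CommRingCat.ofHom (toTEquiv J s hs θ hθ hker).toRingHom)) := by
  have : IsIso (CommRingCat.ofHom (toTEquiv J s hs θ hθ hker).toRingHom) :=
    (ConcreteCategory.isIso_iff_bijective _).mpr (toTEquiv J s hs θ hθ hker).bijective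
  infer_instance

instance isOpenImmersion_cell : IsOpenImmersion (cell J s hs θ hθ hker) := by
  have h1 : IsOpenImmersion (Proj.awayι (gr J) (prG J s) ((prG J).2 hs) Nat.one_pos) :=
    IsOpenImmersion.comp _ _
  exact MorphismProperty.comp_mem (W := @IsOpenImmersion) _ _ inferInstance h1

theorem opensRange_cell : (cell J s hs θ hθ hker).opensRange = Proj.basicOpen (gr J) (prG J s) := by
  have h1 : IsOpenImmersion (Proj.awayι (gr J) (prG J s) ((prG J).2 hs) Nat.one_pos) :=
    IsOpenImmersion.comp _ _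
  refine Eq.trans ?_ (Proj.opensRange_awayι (gr J) (prG J s) ((prG J).2 hs) Nat.one_pos)
  exact @Scheme.Hom.opensRange_comp_of_isIso _ _ _ _ _ _ h1

theorem mem_range_cell_iff (x : P J) : x ∈ Set.range (cell J s hs θ hθ hker) ↔
    Ideal.Quotient.mk _ s ∉ (ProjectiveSpectrum.asHomogeneousIdeal (𝒜 := gr J) x).toIdeal := by
  have h3 : x ∈ Proj.basicOpen (gr J) (prG J s) ↔
      prG J s ∉ ProjectiveSpectrum.asHomogeneousIdeal (𝒜 := gr J) x :=
    Proj.mem_basicOpen _ _ _
  rw [← opensRange_cell J s hs θ hθ hker] at h3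
  exact h3

/-- the closed subscheme `s = 0` and the cell `s ≠ 0` are complementary -/
theorem isCompl_range (hk : RingHom.ker (φ : A →+* B) = J.toIdeal ⊔ Ideal.span {s}) :
    IsCompl (Set.range (pl J φ hφ hJ)) (Set.range (cell J s hs θ hθ hker)) := by
  have h : Set.range (pl J φ hφ hJ) = (Set.range (cell J s hs θ hθ hker))ᶜ := by
    ext x
    rw [Set.mem_compl_iff, mem_range_pl_iff' J φ hφ hJ s hk, mem_range_cell_iff, not_not]
  rw [h]
  exact isCompl_compl.symm

end Quot

end Groth.Agent.Lefpen.H527.QuotProj
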