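import Groth.Agent.Lefpen.H527.QuotProj
import Groth.Agent.Ega3B.ProjProper

/-!
# Structure morphisms of `P J` and of the cells
-/

set_option autoImplicit false
open CategoryTheory AlgebraicGeometry HomogeneousLocalization
open Groth.Agent.Sga5.ProjSurj Groth.Agent.Lefpen.H713.GrQuot
universe u

namespace Groth.Agent.Lefpen.H527.QuotProj

variable {k A : Type u} [CommRing k] [CommRing A] [Algebra k A] {𝒜 : ℕ → Submodule k A} [GradedAlgebra 𝒜]
  (J : HomogeneousIdeal 𝒜)

variable (𝒜) in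
/-- the structure morphism of `Proj 𝒜` over `Spec k` -/
noncomputable def str : Proj 𝒜 ⟶ Spec (CommRingCat.of k) :=
  Proj.toSpecZero 𝒜 ≫ Spec.map (CommRingCat.ofHom (algebraMap k (𝒜 0)))

variable {T : Type u} [CommRing T] (s : A) (hs : s ∈ 𝒜 1) (θ : A →+* T)
  (hθ : Function.Surjective θ) (hker : RingHom.ker θ = J.toIdeal ⊔ Ideal.span {s - 1})

@[reassoc]
theorem cell_emb : cell J s hs θ hθ hker ≫ emb J =
    (Spec.map (CommRingCat.ofHom (toTEquiv J s hs θ hθ hker).toRingHom) ≫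
      Spec.map (CommRingCat.ofHom (Away.map (prG J) s))) ≫ Proj.awayι 𝒜 s hs Nat.one_pos := by
  have h1 := Proj.awayι_comp_map (prG J) (irrelevant_le_map (degSurj_prG J)) Nat.one_pos s hs
  rw [cell, emb, Category.assoc, Category.assoc]
  exact congrArg (fun t => Spec.map (CommRingCat.ofHom (toTEquiv J s hs θ hθ hker).toRingHom) ≫ t) h1

omit [GradedAlgebra 𝒜] in
theorem mem0 (x : 𝒜 0) : (x : A) ∈ 𝒜 (0 • 1) := by
  rw [zero_smul]
  exact x.2

theorem fromZero_eq (x : 𝒜 0) : fromZeroRingHom 𝒜 (Submonoid.powers s) x =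
    Away.mk 𝒜 hs 0 (x : A) (mem0 x) := by
  apply HomogeneousLocalization.val_injective
  rw [Away.val_mk]
  change (HomogeneousLocalization.mk _).val = _
  rw [HomogeneousLocalization.val_mk]
  congr 1
  exact Subtype.ext (pow_zero s).symm

theorem ring_eq [Algebra k T] (hk : ∀ r, θ (algebraMap k A r) = algebraMap k T r) (r : k) :
    toTEquiv J s hs θ hθ hker (Away.map (prG J) s (fromZeroRingHom 𝒜 (Submonoid.powers s)
      (algebraMap k (𝒜 0) r))) = algebraMap k T r := by
  rw [fromZero_eq s hs]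
  have h1 : Away.map (prG J) s (Away.mk 𝒜 hs 0 ((algebraMap k (𝒜 0) r : 𝒜 0) : A) (mem0 _)) =
    Away.mk (gr J) ((prG J).2 hs) 0 (prG J ((algebraMap k (𝒜 0) r : 𝒜 0) : A))
      ((prG J).2 (mem0 _)) := Away.map_mk ..
  rw [h1]
  refine (toT_mk (gr J) (prG J s) ((prG J).2 hs) (bar J s θ hker) (bar_s J s θ hker) _ _).trans ?_
  exact hk r

theorem cell_str [Algebra k T] (hk : ∀ r, θ (algebraMap k A r) = algebraMap k T r) :
    cell J s hs θ hθ hker ≫ emb J ≫ str 𝒜 =
      Spec.map (CommRingCat.ofHom (algebraMap k T)) := by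
  rw [cell_emb_assoc, str]
  have h := Proj.awayι_toSpecZero_assoc 𝒜 s hs Nat.one_pos
    (Spec.map (CommRingCat.ofHom (algebraMap k (𝒜 0))))
  refine (congrArg (fun t => (Spec.map (CommRingCat.ofHom (toTEquiv J s hs θ hθ hker).toRingHom) ≫
      Spec.map (CommRingCat.ofHom (Away.map (prG J) s))) ≫ t) h).trans ?_
  rw [← Spec.map_comp, ← Spec.map_comp, ← Spec.map_comp]
  congr 1
  apply CommRingCat.hom_ext
  apply RingHom.ext
  intro r
  exact ring_eq J s hs θ hθ hker hk r

end Groth.Agent.Lefpen.H527.QuotProj
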